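import Groth.Agent.AlgSpLib.Sigma
import Groth.Agent.AlgSpLib.Criteria
import Mathlib.CategoryTheory.Sites.LeftExact
import Mathlib.CategoryTheory.Extensive

/-!
# A criterion for locality on the base for fpqc coverings
-/

universe u

open CategoryTheory CategoryTheory.Limits AlgebraicGeometry Opposite

set_option backward.isDefEq.respectTransparency false

namespace Groth.Agent.FpqcCrit

open _root_.AlgSp Groth.Agent.AlgSpLib

variable {S : Scheme.{u}}

/-- a finite disjoint union of schemes is a coproduct in sheaves -/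
theorem exists_isColimit_sigma {ι : Type u} (W : ι → Over S) :
    ∃ (q : ∀ i, W i ⟶ Over.mk (Sigma.desc fun i => (W i).hom)),
      (∀ i, (q i).left = Sigma.ι (fun i => (W i).left) i) ∧
      Nonempty (IsColimit (Cofan.mk ((yon S).obj (Over.mk (Sigma.desc fun i => (W i).hom)))
        (fun i => (yon S).map (q i)))) := by
  let Z : ι → Scheme.{u} := fun i => (W i).left
  let f : ∀ i, Z i ⟶ S := fun i => (W i).hom
  refine ⟨fun i => Over.homMk (Sigma.ι Z i) (Sigma.ι_desc f i), fun i => rfl, ⟨?_⟩⟩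
  refine Cofan.IsColimit.mk _ (fun s => (exists_sigma_hom f fun i => s.inj i).choose)
    (fun s i => (exists_sigma_hom f fun i => s.inj i).choose_spec i) fun s m hm => ?_
  refine hom_ext_cover (R := Presieve.ofArrows Z (Sigma.ι Z))
    (Scheme.zariskiPrecoverage_le_fppfPrecoverage _ (sigmaOpenCover Z).mem₀) ?_
  rintro _ _ ⟨i⟩
  let e : Over.mk (Sigma.ι Z i ≫ Sigma.desc f) ⟶ W i :=
    Over.homMk (𝟙 _) ((Category.id_comp _).trans (Sigma.ι_desc f i).symm)
  have he : (Over.homMk (Sigma.ι Z i) rfl : Over.mk (Sigma.ι Z i ≫ Sigma.desc f) ⟶ Over.mk (Sigma.desc f)) =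
      e ≫ (Over.homMk (Sigma.ι Z i) (Sigma.ι_desc f i) : W i ⟶ Over.mk (Sigma.desc f)) :=
    Over.OverMorphism.ext (Category.id_comp _).symm
  erw [he]
  rw [Functor.map_comp, Category.assoc, Category.assoc]
  congr 1
  exact (hm i).trans ((exists_sigma_hom f fun i => s.inj i).choose_spec i).symm

/-- the criterion -/
theorem isLocalOnBase_fpqc (P : MorphismProperty (Sp S))
    (h1 : ∀ ⦃ι : Type u⦄ [Finite ι] (Xi Yi : ι → Sp S) (fi : ∀ i, Xi i ⟶ Yi i) (cX : Cofan Xi) (cY : Cofan Yi)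
      (_ : IsColimit cX) (_ : IsColimit cY) (m : cX.pt ⟶ cY.pt), (∀ i, IsAlgSpace (Xi i)) →
      (∀ i, IsAlgSpace (Yi i)) → IsAlgSpace cX.pt → IsAlgSpace cY.pt → (∀ i, cX.inj i ≫ m = fi i ≫ cY.inj i) →
      (∀ i, P (fi i)) → P m)
    (h2 : ∀ ⦃X Y : Sp S⦄, IsAlgSpace X → IsAlgSpace Y → ∀ (f : X ⟶ Y), P f ↔ ∀ (Z : Over S), IsAffine Z.left →
      ∀ (g : (yon S).obj Z ⟶ Y) (W : Sp S) (fst : W ⟶ X) (snd : W ⟶ (yon S).obj Z),
        IsAlgSpace W → IsPullback fst snd f g → P snd)
    (h3 : ∀ ⦃Z Z' : Over S⦄ (c : Z' ⟶ Z), IsAffine Z.left → IsAffine Z'.left → Surjective c.left → Flat c.left →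
      ∀ ⦃X X' : Sp S⦄ (f : X ⟶ (yon S).obj Z) (fst : X' ⟶ X) (f' : X' ⟶ (yon S).obj Z'),
        IsAlgSpace X → IsAlgSpace X' → IsPullback fst f' f ((yon S).map c) → P f' → P f) :
    IsLocalOnBase (IsFpqcCover (S := S)) P := by
  intro ι Y Yi g hY hYi hg X f hX Xi p q hXi sq
  refine ⟨fun h i => (h2 (hXi i) (hYi i) _).2 fun Z hZ a W fst snd hW sq' => ?_, fun h => ?_⟩
  · exact (h2 hX hY f).1 h Z hZ (a ≫ g i) W (fst ≫ q i) snd hW (sq'.paste_horiz (sq i))
  refine (h2 hX hY f).2 fun Z hZ ξ W fst snd hW sqW => ?_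
  obtain ⟨m, V, c, hV, hc, hcs, hl⟩ := hg.2 Z hZ ξ
  choose i l hl using hl
  let V' : ULift.{u} (Fin m) → Over S := fun j => V j.down
  obtain ⟨inj, hinj, ⟨hcY⟩⟩ := exists_isColimit_sigma V'
  let Z' : Over S := Over.mk (Sigma.desc fun j => (V' j).hom)
  let cc : Z' ⟶ Z := Over.homMk (Sigma.desc fun j => (c j.down).left) (by
    refine Sigma.hom_ext _ _ fun j => ?_
    exact (Sigma.ι_desc_assoc _ _ _).trans ((Over.w (c j.down)).trans (Sigma.ι_desc (fun j => (V' j).hom) j).symm))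
  have hic : ∀ j, inj j ≫ cc = c j.down := fun j => by
    ext1
    rw [Over.comp_left, hinj]
    exact Sigma.ι_desc _ _
  have : ∀ j : ULift.{u} (Fin m), IsAffine (V' j).left := fun j => hV j.down
  have hZ' : IsAffine Z'.left := inferInstanceAs (IsAffine (∐ fun j => (V' j).left))
  have hfl : Flat cc.left :=
    (IsZariskiLocalAtSource.iff_of_openCover (P := @Flat) (sigmaOpenCover fun j => (V' j).left)).2 fun j => by
      rw [show (sigmaOpenCover fun j => (V' j).left).f j = Sigma.ι (fun j => (V' j).left) j from rfl,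
        show Sigma.ι (fun j => (V' j).left) j ≫ cc.left = (c j.down).left from Sigma.ι_desc _ _]
      exact hc j.down
  have hsu : Surjective cc.left := ⟨fun z => by
    obtain ⟨j, w, hw⟩ := hcs z
    exact ⟨Sigma.ι (fun j => (V' j).left) ⟨j⟩ w,
      (congr($(Sigma.ι_desc (fun j => (c j.down).left) (ULift.up j)) w)).trans hw⟩⟩
  have sq' := IsPullback.of_hasPullback snd ((yon S).map cc)
  have hX' := isAlgSpace_of_isPullback_space (IsAlgSpace.yon_obj Z) hW (IsAlgSpace.yon_obj Z') sq'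
  refine h3 cc hZ hZ' hsu hfl snd _ (pullback.snd snd ((yon S).map cc)) hW hX' sq' ?_
  let snd' := pullback.snd snd ((yon S).map cc)
  let Xj : ULift.{u} (Fin m) → Sp S := fun j => pullback snd' ((yon S).map (inj j))
  have sqj := fun j => IsPullback.of_hasPullback snd' ((yon S).map (inj j))
  have hXj : ∀ j, IsAlgSpace (Xj j) := fun j =>
    isAlgSpace_of_isPullback_space (IsAlgSpace.yon_obj Z') hX' (IsAlgSpace.yon_obj (V' j)) (sqj j)
  let cX : Cofan Xj := Cofan.mk _ (fun j => pullback.fst snd' ((yon S).map (inj j)))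
  have huniv := FinitaryPreExtensive.isUniversal_finiteCoproducts hcY
  obtain ⟨hcX⟩ : Nonempty (IsColimit cX) :=
    huniv cX (Discrete.natTrans fun j => pullback.snd snd' ((yon S).map (inj j.as))) snd'
      (by ext j : 2; exact pullback.condition.symm) (NatTrans.Equifibered.of_discrete _) fun j => sqj j.as
  refine h1 Xj (fun j => (yon S).obj (V' j)) (fun j => pullback.snd _ _) cX _ hcX hcY snd' hXj
    (fun j => IsAlgSpace.yon_obj _) hX' (IsAlgSpace.yon_obj Z') (fun j => pullback.condition) fun j => ?_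
  have big := ((sqj j).paste_horiz sq').paste_horiz sqW
  rw [show ((yon S).map (inj j) ≫ (yon S).map cc) ≫ ξ = l j.down ≫ g (i j.down) by
    rw [← Functor.map_comp, hic, hl]] at big
  have sqi := sq (i j.down)
  refine (h2 (hXi _) (hYi _) _).1 (h (i j.down)) (V' j) (hV j.down) (l j.down) (Xj j)
    (sqi.lift ((pullback.fst snd' _ ≫ pullback.fst snd _) ≫ fst) (pullback.snd snd' _ ≫ l j.down)
      (by rw [big.w, Category.assoc])) _ (hXj j) (IsPullback.of_right ?_ (sqi.lift_snd _ _ _) sqi)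
  rw [sqi.lift_fst]
  exact big

end Groth.Agent.FpqcCrit
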